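/-
Coset enumeration data, found by a computer search; checked by `decide +kernel`.
-/
import Cfsg.Agent.Lib.Spor.TC.Check

namespace CfsgLib.Spor.ON.CM

open CfsgLib.Spor.TC

def edgeTbl : Tbl :=
  .bin (.tip 0x90000c30000b0000b10000b0000b0000090000b20000a0000a30000a0000a20000a0000a0000090000a1000050000900000500005100004000042000070000700000700008300008000062000080000610000400008000007000071000030000720000600003300003000060000050000530000200005200004000043000020000410000100003100002000023000010000200000100001200000000013000000000020000000000100000000000) (.tip 0xb0000930000c0000b40000c0000c10000c0000c0)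

def nodeTbl : Tbl :=
  .bin (.tip 0x93000092000091000050000040000032000030000022000021000011000010000003000000) (.none)

def rowTbl : Tbl :=
  .bin (.tip 0xb0000a00009000080000700006000050000400003000020000100000) (.none)

def rels : List (List ℕ) := [[0, 1, 0, 1, 0, 1], [0, 2, 0, 2, 0, 2, 0, 2, 0, 2], [0, 3, 0, 3, 0, 3], [1, 2, 1, 2, 1, 2], [1, 3, 1, 3, 1, 3, 1, 3, 1, 3, 1, 3], [2, 3, 2, 3], [0, 1, 2, 0, 1, 2, 1, 0, 1, 2, 0, 1, 2, 1, 0, 1, 2, 0, 1, 2, 1], [0, 1, 3, 1, 0, 3, 1, 3], [1, 2, 3, 1, 3, 1, 2, 3, 1, 3]]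

def subs : List (List ℕ) := [[0], [1], [2]]

noncomputable def cert : Cert :=
  ⟨4, rels, subs, edgeTbl.get 44, nodeTbl.get 24, rowTbl.get 20⟩

end CfsgLib.Spor.ON.CM
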