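/-
Coset enumeration certificate, found by a computer search.
-/
import Cfsg.Agent.Lib.Spor.ON.CM.Data

namespace CfsgLib.Spor.ON.CM

open CfsgLib.Spor.TC

def scodes0_0 : List ℕ :=
  [0x10000100003,
   0x10000200003,
   0x10000300003,
   0x1,
   0x7000050000800003000010000600002,
   0x1,
   0xb0000700002000080000c00002000020000300002,
   0x1,
   0x1,
   0x110000b0000700004000080000c0001200003000020000800002,
   0x1,
   0x150000e0001600002000030000600002,
   0x1,
   0xf00007000010000300008000100001a00006000010000800002,
   0x1,
   0x1d0000f0000a000100001e00003000020000400002,
   0x1,
   0x190000f0000c000120002200002000050000100002,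
   0x1c0000f00007000040000600008000100001b0002300002000070000900002,
   0x260001c0001e00004000090000600002,
   0x280002100014000220002700003000050000300002,
   0x2200026000190001e000290001d0001a000250002100006000080000200002,
   0x15000120002b000110001600005000030000400002,
   0x1,
   0x1,
   0x310002f0002e000300003200003000060000100002,
   0x310002f0002e000150000b000100001e000200002a000200001d0001a000230002600023000210001100016000300003200006000090000700002,
   0x310002f000180002e00018000300003200003000060000800002,
   0x1,
   0x390002f000150000b0000a0000c00016000300003a00003000060000200002,
   0x390003200036000310003a000030000b0000400002,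
   0x1,
   0x3f0002f00018000300004000003000060000300002,
   0x420003f0003200038000330003100040000040000b0000800002,
   0x3d0003900040000430003f00032000350003700031000400000b0000c0000900002,
   0x400004600004]

def scodes0_ : List ℕ :=
  scodes0_0

set_option maxRecDepth 100000 in
theorem steps0 : cert.StepsOK 0 36 :=
  Cert.StepsOK.of_check _ (codes := scodes0_) (by decide +kernel)

def rcodes0_0 : List ℕ :=
  [0x600002000005000010000030000100000100001,
   0x7000010000090000200000e0000400000a00003,
   0xd00003000014000060000100000500000b00002,
   0x1b0000700001c0000800000f0000200001800007,
   0x130000500002b000050000110000300002000009,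
   0x17000060000150000300002d0000600002e0000a,
   0x1a00004000025000090000230000900001900004,
   0x260000900001d0000400001f0000800002900008,
   0x2700008000024000070000220000700002100005,
   0x470000c0000380000c0000300000b00002f00006,
   0x370000b0000350000b0000310000a0000330000b,
   0x460000a0000390000a00003d0000c00003b0000c]

def rcodes0_ : List ℕ :=
  rcodes0_0

set_option maxRecDepth 100000 in
theorem rows0 : cert.RowsOK 36 12 0 12 :=
  Cert.RowsOK.of_check _ (codes := rcodes0_) (by decide +kernel)

end CfsgLib.Spor.ON.CM
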